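import Groth.Agent.L22.Inter.Cons
import Groth.Agent.L22.Inter.Coeff
import Groth.Agent.L03.Euler.Hilb
import Mathlib.Analysis.Polynomial.Basic

/-!
Self intersection numbers are leading coefficients of Hilbert polynomials.
-/

set_option autoImplicit false
set_option backward.isDefEq.respectTransparency false
universe u

open CategoryTheory CategoryTheory.Limits AlgebraicGeometry Polynomial

noncomputable section

namespace Groth.L22.Nakai

open Groth.L22.Inter Groth.L03.Euler

/-- The mixed difference of a polynomial in the sum of the variables. -/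
theorem alt_eval_sum : ∀ (d : ℕ) (P : ℚ[X]), P.natDegree ≤ d →
    alt (fun n : Fin d → ℕ => P.eval ((∑ i, n i : ℕ) : ℚ)) = (d.factorial : ℚ) * P.coeff d
  | 0, P, hP => by
    rw [alt_apply, Fintype.sum_unique]
    simp [sgn, Polynomial.eval_eq_sum_range' (Nat.lt_succ_of_le hP)]
  | d + 1, P, hP => by
    have hdeg : (taylor 1 P - P).natDegree ≤ d := by
      rw [natDegree_le_iff_coeff_eq_zero]
      intro m hm
      rcases Nat.lt_or_ge m (d + 2) with h | h
      · obtain rfl : m = d + 1 := by omega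
        rw [coeff_sub, taylor_coeff, eval_eq_sum_range'
          (lt_of_le_of_lt (natDegree_hasseDeriv_le _ _) (show P.natDegree - (d + 1) < 1 by omega))]
        simp [hasseDeriv_coeff]
      · rw [coeff_sub, coeff_eq_zero_of_natDegree_lt (by rw [natDegree_taylor]; omega),
          coeff_eq_zero_of_natDegree_lt (by omega), sub_zero]
    rw [alt_succ, ← map_sub]
    have hfun : ((fun n : Fin d → ℕ => P.eval ((∑ i, (Fin.cons 1 n : Fin (d + 1) → ℕ) i : ℕ) : ℚ)) -
        fun n : Fin d → ℕ => P.eval ((∑ i, (Fin.cons 0 n : Fin (d + 1) → ℕ) i : ℕ) : ℚ)) =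
        fun n : Fin d → ℕ => (taylor 1 P - P).eval ((∑ i, n i : ℕ) : ℚ) := by
      funext n
      simp [Fin.sum_univ_succ, taylor_apply, eval_sub, eval_comp, add_comm]
    rw [hfun, alt_eval_sum d _ hdeg, coeff_taylor_sub hP, Nat.factorial_succ]
    push_cast
    ring

variable (k : Type u) [Field k] {X : Scheme.{u}} [X.Over (Spec (CommRingCat.of k))] (L : X.Modules)

theorem nonempty_tensorPows_const : ∀ {r : ℕ} (n : Fin r → ℕ),
    Nonempty (Curv2.tensorPows (Coh.structureModule X) r (fun _ => L) n ≅ CohB1.tensorPow L (∑ i, n i))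
  | 0, _ => ⟨eqToIso (by simp [Curv2.tensorPows, CohB1.tensorPow])⟩
  | r + 1, n => by
    obtain ⟨e⟩ := nonempty_tensorPows_const (r := r) (fun i => n i.castSucc)
    exact ⟨Groth.L00.Tensor.tensorIso e (Iso.refl _) ≪≫
      Groth.L00.Tensor.tensorPowAdd L (∑ i : Fin r, n i.castSucc) (n (Fin.last r)) ≪≫
      eqToIso (congrArg (CohB1.tensorPow L) (Fin.sum_univ_castSucc n).symm)⟩

theorem altT_diag {F : X.Modules} {d : ℕ} {P : ℚ[X]} (hP : ShStab.IsHilbPoly k X L F P)
    (hd : P.natDegree ≤ d) : altT k (fun _ : Fin d => L) F = (d.factorial : ℚ) * P.coeff d := by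
  rw [← alt_eval_sum d P hd, altT]
  congr 1
  funext n
  obtain ⟨e⟩ := nonempty_tensorPows_const L n
  rw [← hP]
  exact congrArg (Int.cast : ℤ → ℚ) (euler_iso (Groth.L00.Tensor.tensorIso (Iso.refl F) e))

/-- Positive self intersection makes the Euler characteristics of powers grow. -/
theorem exists_lt_euler [IsProper (X ↘ Spec (CommRingCat.of k))] (hL : PicF.IsInvertible L) {F : X.Modules}
    (hF : Coh.IsCoh F) {d : ℕ} (hd : 0 < d) (hdim : topologicalKrullDim (CohB1.support F) ≤ d)
    (hpos : 0 < altT k (fun _ : Fin d => L) F) (C : ℤ) :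
    ∃ N : ℕ, ∀ n, N ≤ n → C < Curv2.euler k X (CohB1.tensorMod F (CohB1.tensorPow L n)) := by
  obtain ⟨P, hPd, hP⟩ := exists_isHilbPoly (k := k) hL hF (d := d) hdim
  rw [altT_diag k L hP hPd] at hpos
  have hc : 0 < P.coeff d := pos_of_mul_pos_right hpos (Nat.cast_nonneg _)
  have hdeg : P.natDegree = d := le_antisymm hPd (le_natDegree_of_ne_zero hc.ne')
  have hlim := Polynomial.tendsto_atTop_of_leadingCoeff_nonneg P
    (natDegree_pos_iff_degree_pos.1 (hdeg ▸ hd)) (by rw [leadingCoeff, hdeg]; exact hc.le)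
  obtain ⟨N, hN⟩ := Filter.eventually_atTop.1
    ((hlim.comp tendsto_natCast_atTop_atTop).eventually_gt_atTop (C : ℚ))
  refine ⟨N, fun n hn => ?_⟩
  have h : (C : ℚ) < P.eval (n : ℚ) := hN n hn
  rw [← hP n] at h
  exact_mod_cast h

end Groth.L22.Nakai
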