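import Groth.Agent.L22.Nakai.Integral
import Groth.Agent.L22.Inter.Push
import Groth.Agent.L22.Inter.Point
import Groth.Agent.L03.ShStab.Trunc

/-!
Nakai's criterion.
-/

set_option autoImplicit false
set_option backward.isDefEq.respectTransparency false
set_option linter.style.haveILetI false
universe u

open CategoryTheory CategoryTheory.Limits AlgebraicGeometry TopologicalSpace

noncomputable section

namespace Groth.L22.Nakai

open Groth.L16 Groth.L22.Inter Groth.L03.Euler

variable (k : Type u) [Field k] {X : Scheme.{u}} [X.Over (Spec (CommRingCat.of k))]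
  [IsProper (X ↘ Spec (CommRingCat.of k))] {L : X.Modules}

/-- The support of the structure module. -/
theorem dim_support_structure (Y : Scheme.{u}) :
    topologicalKrullDim (CohB1.support (Coh.structureModule Y)) = topologicalKrullDim Y := by
  have hsupp : CohB1.support (Coh.structureModule Y) = Set.univ := Set.eq_univ_of_forall fun x hs => by
    have h := (Groth.L21.RR.bijective_smul_one x).1 (a₁ := (1 : Y.presheaf.stalk x)) (a₂ := 0)
      (@Subsingleton.elim _ hs _ _)
    exact one_ne_zero h
  rw [hsupp]
  exact IsHomeomorph.topologicalKrullDim_eq _ (Homeomorph.Set.univ Y).isHomeomorph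

theorem dim_subscheme (Z : X.IdealSheafData) :
    topologicalKrullDim (Z.support : Set X) = topologicalKrullDim Z.subscheme := by
  rw [← Z.range_subschemeι]
  exact (IsHomeomorph.topologicalKrullDim_eq _ Z.subschemeι.isEmbedding.toHomeomorph.isHomeomorph).symm

/-- The intersection number on a closed subscheme, computed there. -/
theorem altT_quotMod (hL : PicF.IsInvertible L) (Z : X.IdealSheafData)
    [Z.subscheme.Over (Spec (CommRingCat.of k))]
    (hZ : Z.subschemeι ≫ (X ↘ Spec (CommRingCat.of k)) = Z.subscheme ↘ Spec (CommRingCat.of k)) (d : ℕ) :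
    altT k (fun _ : Fin d => L) (ClSub.quotMod Z) =
      altT k (fun _ : Fin d => (Scheme.Modules.pullback Z.subschemeι).obj L) (Coh.structureModule Z.subscheme) := by
  haveI := Groth.L21.RR.isNoetherian_of_proper (X := X) k
  haveI : X.IsSeparated := ⟨by rw [← terminal.comp_from (X ↘ Spec (CommRingCat.of k))]; infer_instance⟩
  haveI : IsLocallyNoetherian Z.subscheme := LocallyOfFiniteType.isLocallyNoetherian Z.subschemeι
  exact congrArg alt (funext fun n => twEuler_push k Z.subschemeι hZ (fun _ : Fin d => hL)
    (Coh.structureModule Z.subscheme) (CohClosedPush.isCoh_structure (X := Z.subscheme)).1 n)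

theorem twEuler_quotMod_mem (hL : PicF.IsInvertible L) (Z : X.IdealSheafData) {d : ℕ}
    (hd : topologicalKrullDim (Z.support : Set X) ≤ d) :
    twEuler k (fun _ : Fin d => L) (ClSub.quotMod Z) ∈ polyFun d (d + 1) := by
  haveI := Groth.L21.RR.isNoetherian_of_proper (X := X) k
  exact twEuler_mem' (k := k) (fun _ : Fin d => hL) (Groth.L21.RR.isCoh_quotMod Z)
    ((topologicalKrullDim_set_mono (support_quotMod_subset Z)).trans hd)

include k in
/-- Self intersection numbers of ample modules on integral subschemes are positive. -/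
theorem altT_quotMod_pos (hL : CohB1.IsAmple L) (Z : X.IdealSheafData) {d : ℕ}
    (hd : topologicalKrullDim (Z.support : Set X) = d) :
    0 < altT k (fun _ : Fin d => L) (ClSub.quotMod Z) := by
  letI : Z.subscheme.Over (Spec (CommRingCat.of k)) := ⟨Z.subschemeι ≫ (X ↘ Spec (CommRingCat.of k))⟩
  haveI : IsProper (Z.subscheme ↘ Spec (CommRingCat.of k)) :=
    inferInstanceAs (IsProper (Z.subschemeι ≫ (X ↘ Spec (CommRingCat.of k))))
  haveI := Groth.L21.RR.isNoetherian_of_proper (X := Z.subscheme) k
  rw [altT_quotMod k hL.1 Z rfl d]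
  have hL' := Groth.L18.Ample.isAmple_pullback_of_isAffineHom Z.subschemeι hL
  have hdim : topologicalKrullDim (CohB1.support (Coh.structureModule Z.subscheme)) = d := by
    rw [dim_support_structure, ← dim_subscheme, hd]
  have hO := CohClosedPush.isCoh_structure (X := Z.subscheme)
  obtain ⟨P, hPd, hP⟩ := exists_isHilbPoly (k := k) hL'.1 hO hdim.le
  rw [altT_diag k _ hP hPd]
  exact mul_pos (Nat.cast_pos.2 d.factorial_pos) (natDegree_eq_and_coeff_pos hL' hO hdim hP).2

include k in
/-- Positive intersection numbers on integral subschemes imply ampleness on all of them. -/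
theorem isAmple_pullback_pt (hL : PicF.IsInvertible L)
    (h : ∀ (y : X) (d : ℕ), 0 < d → topologicalKrullDim (closure ({y} : Set X)) = d →
      0 < altT k (fun _ : Fin d => L) (ClSub.quotMod (pt y))) (y : X) :
    CohB1.IsAmple ((Scheme.Modules.pullback (pt y).subschemeι).obj L) := by
  haveI := Groth.L21.RR.isNoetherian_of_proper (X := X) k
  suffices ∀ (T : Closeds X) (y : X), closure ({y} : Set X) = T →
      CohB1.IsAmple ((Scheme.Modules.pullback (pt y).subschemeι).obj L) from
    this ⟨_, isClosed_closure⟩ y rfl
  intro T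
  induction T using WellFoundedLT.induction with
  | ind T ih =>
  intro y hy
  haveI := isIntegral_pt y
  let C := (pt y).subscheme
  letI : C.Over (Spec (CommRingCat.of k)) := ⟨(pt y).subschemeι ≫ (X ↘ Spec (CommRingCat.of k))⟩
  haveI : IsProper (C ↘ Spec (CommRingCat.of k)) :=
    inferInstanceAs (IsProper ((pt y).subschemeι ≫ (X ↘ Spec (CommRingCat.of k))))
  haveI := Groth.L21.RR.isNoetherian_of_proper (X := C) k
  have hC := Groth.L18.Ample.isInvertible_pullback (pt y).subschemeι hL
  have hsub : ∀ (D : Scheme.{u}) (i : D ⟶ C) [IsClosedImmersion i] [IsIntegral D], Set.range i ≠ Set.univ →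
      CohB1.IsAmple ((Scheme.Modules.pullback i).obj ((Scheme.Modules.pullback (pt y).subschemeι).obj L)) := by
    intro D i _ _ hne
    let g : D ⟶ X := i ≫ (pt y).subschemeι
    let y' : X := g (genericPoint D)
    have hg : Set.range g = closure {y'} := by
      refine Set.Subset.antisymm ?_ (closure_minimal (Set.singleton_subset_iff.2 ⟨_, rfl⟩)
        g.isClosedEmbedding.isClosed_range)
      rintro _ ⟨z, rfl⟩
      exact specializes_iff_mem_closure.1 ((genericPoint_specializes z).map g.continuous)
    have hlt : (⟨closure {y'}, isClosed_closure⟩ : Closeds X) < T := by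
      rw [← SetLike.coe_ssubset_coe, Closeds.coe_mk, ← hy, ← hg, ← range_pt y]
      refine ⟨Set.range_comp_subset_range i (pt y).subschemeι, fun hsub => hne (Set.eq_univ_of_forall fun c => ?_)⟩
      obtain ⟨z, hz⟩ := hsub ⟨c, rfl⟩
      exact ⟨z, (pt y).subschemeι.isClosedEmbedding.injective hz⟩
    have hle : g.ker ≤ (pt y').subschemeι.ker := by
      rw [Scheme.IdealSheafData.ker_subschemeι, ← Scheme.IdealSheafData.le_support_iff_le_vanishingIdeal]
      show closure {y'} ⊆ _
      rw [Scheme.Hom.support_ker, hg]
      exact subset_closure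
    let j : (pt y').subscheme ⟶ D := IsClosedImmersion.lift g (pt y').subschemeι hle
    have hj : j ≫ g = (pt y').subschemeι := IsClosedImmersion.lift_fac _ _ _
    haveI : IsClosedImmersion (j ≫ g) := hj ▸ inferInstance
    haveI : IsClosedImmersion j := IsClosedImmersion.of_comp j g
    haveI : Surjective j := ⟨fun t => by
      obtain ⟨z, hz⟩ : g t ∈ Set.range (pt y').subschemeι := by rw [range_pt, ← hg]; exact ⟨t, rfl⟩
      exact ⟨z, g.isClosedEmbedding.injective (by rw [← Scheme.Hom.comp_apply, hj]; exact hz)⟩⟩
    haveI : IsIso j := isIso_of_isClosedImmersion_of_surjective j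
    exact Groth.L18.Ample.isAmple_of_iso
      ((Scheme.Modules.pullbackComp (inv j) _).app L ≪≫
        (Scheme.Modules.pullbackCongr (show inv j ≫ (pt y').subschemeι = g by rw [← hj, IsIso.inv_hom_id_assoc])).app L ≪≫
        ((Scheme.Modules.pullbackComp i (pt y).subschemeι).app L).symm)
      (Groth.L18.Ample.isAmple_pullback_of_isAffineHom (inv j) (ih _ hlt y' rfl))
  have hdimC : topologicalKrullDim C = topologicalKrullDim (closure ({y} : Set X)) := by
    rw [← range_pt y]
    exact IsHomeomorph.topologicalKrullDim_eq _ (pt y).subschemeι.isEmbedding.toHomeomorph.isHomeomorph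
  obtain ⟨d, hd⟩ : ∃ d : ℕ, topologicalKrullDim C = d := by
    obtain ⟨n, hn, -⟩ := Groth.L22.SchemeDim.exists_dim_closure_eq_trdeg k X y
    exact ⟨n, hdimC.trans hn⟩
  rcases Nat.eq_zero_or_pos d with rfl | hd0
  · haveI : Subsingleton C := by
      have h0 := hdimC.symm.trans hd
      refine ⟨fun a b => ?_⟩
      have huniv : topologicalKrullDim (Set.univ : Set C) = (0 : ℕ) :=
        (IsHomeomorph.topologicalKrullDim_eq _ (Homeomorph.Set.univ C).isHomeomorph).trans hd
      have key : ∀ c : C, c = genericPoint C := fun c =>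
        (eq_of_specializes_top (X := C) (T := Set.univ) isClosed_univ (d := 0) huniv.le (x := c)
          (z := genericPoint C)
          (le_antisymm ((topologicalKrullDim_set_mono (Set.subset_univ _)).trans huniv.le)
            (zero_le_topologicalKrullDim (Set.Nonempty.closure (Set.singleton_nonempty c))))
          trivial (genericPoint_specializes c)).symm
      rw [key a, key b]
    obtain ⟨_, ⟨U, hU, rfl⟩, hx, -⟩ :=
      C.isBasis_affineOpens.exists_subset_of_mem_open (Set.mem_univ (genericPoint C)) isOpen_univ
    have hUtop : U = ⊤ := top_le_iff.1 fun c _ => by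
      rw [Subsingleton.elim c (genericPoint C)]
      exact hx
    haveI : IsAffine (⊤ : C.Opens).toScheme := hUtop ▸ hU
    haveI : IsAffine C := IsAffine.of_isIso C.topIso.inv
    exact Groth.L18.Ample.isAmple_of_isQuasiAffine hC
  refine isAmple_of_integral k hC hd0 hd hsub ?_
  rw [← altT_quotMod k hL (pt y) rfl d]
  exact h y d hd0 (hdimC.symm.trans hd)

include k in
/-- Nakai's criterion. -/
theorem isAmple_of_pos (hL : PicF.IsInvertible L)
    (h : ∀ (y : X) (d : ℕ), 0 < d → topologicalKrullDim (closure ({y} : Set X)) = d →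
      0 < altT k (fun _ : Fin d => L) (ClSub.quotMod (pt y))) : CohB1.IsAmple L := by
  haveI := Groth.L21.RR.isNoetherian_of_proper (X := X) k
  refine isAmple_of_van k hL fun M hM => van_of_subschemes k hL hM (fun C i _ _ _ => ?_) one_pos
  let y : X := i (genericPoint C)
  have hg : Set.range i = closure {y} := by
    refine Set.Subset.antisymm ?_ (closure_minimal (Set.singleton_subset_iff.2 ⟨_, rfl⟩)
      i.isClosedEmbedding.isClosed_range)
    rintro _ ⟨z, rfl⟩
    exact specializes_iff_mem_closure.1 ((genericPoint_specializes z).map i.continuous)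
  have hle : i.ker ≤ (pt y).subschemeι.ker := by
    rw [Scheme.IdealSheafData.ker_subschemeι, ← Scheme.IdealSheafData.le_support_iff_le_vanishingIdeal]
    show closure {y} ⊆ _
    rw [Scheme.Hom.support_ker, hg]
    exact subset_closure
  let j : (pt y).subscheme ⟶ C := IsClosedImmersion.lift i (pt y).subschemeι hle
  have hj : j ≫ i = (pt y).subschemeι := IsClosedImmersion.lift_fac _ _ _
  haveI : IsClosedImmersion (j ≫ i) := hj ▸ inferInstance
  haveI : IsClosedImmersion j := IsClosedImmersion.of_comp j i
  haveI : Surjective j := ⟨fun t => by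
    obtain ⟨z, hz⟩ : i t ∈ Set.range (pt y).subschemeι := by rw [range_pt, ← hg]; exact ⟨t, rfl⟩
    exact ⟨z, i.isClosedEmbedding.injective (by rw [← Scheme.Hom.comp_apply, hj]; exact hz)⟩⟩
  haveI : IsIso j := isIso_of_isClosedImmersion_of_surjective j
  exact Groth.L18.Ample.isAmple_of_iso
    ((Scheme.Modules.pullbackComp (inv j) _).app L ≪≫
      (Scheme.Modules.pullbackCongr (show inv j ≫ (pt y).subschemeι = i by rw [← hj, IsIso.inv_hom_id_assoc])).app L)
    (Groth.L18.Ample.isAmple_pullback_of_isAffineHom (inv j) (isAmple_pullback_pt k hL h y))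

end Groth.L22.Nakai
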