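import Groth.Agent.L08.Cube.NoCurve
import Groth.Agent.L22.CurveAmple.Main

/-!
Finiteness of morphisms to projective space contracting no curve, over an arbitrary field.
-/

set_option autoImplicit false
set_option linter.style.haveILetI false
set_option linter.unusedSectionVars false
set_option backward.isDefEq.respectTransparency false

universe u

open CategoryTheory CategoryTheory.Limits AlgebraicGeometry TopologicalSpace

noncomputable section

namespace Groth.L22.Nakai

open Groth.L08.Cube (isIntegral_vanishingIdeal trivial_comp eq_top_of_closedPoints)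

variable {K : Type u} [Field K]

/-- A proper morphism over the ground field contracting no integral closed subscheme with more than
one point is finite. -/
theorem isFinite_of_no_curve {X P : Scheme.{u}} (pX : X ⟶ Spec (CommRingCat.of K)) [IsProper pX]
    (pP : P ⟶ Spec (CommRingCat.of K)) [IsSeparated pP] [LocallyOfFiniteType pP] (r : X ⟶ P) (hr : r ≫ pP = pX)
    (h : ∀ (C : Scheme.{u}) (i : C ⟶ X) [IsClosedImmersion i] [AlgebraicGeometry.IsIntegral C] (y : P)
      (t : C ⟶ Spec (P.residueField y)), i ≫ r = t ≫ P.fromSpecResidueField y → Subsingleton C) :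
    IsFinite r := by
  haveI : IsProper (r ≫ pP) := by rw [hr]; infer_instance
  haveI : IsProper r := IsProper.of_comp r pP
  haveI : JacobsonSpace P := LocallyOfFiniteType.jacobsonSpace pP
  haveI : IsLocallyNoetherian X := LocallyOfFiniteType.isLocallyNoetherian pX
  haveI : CompactSpace X := QuasiCompact.compactSpace_of_compactSpace pX
  haveI : IsNoetherian X := {}
  have hfin : ∀ y : P, IsClosed ({y} : Set P) → (r ⁻¹' {y}).Finite := by
    intro y hy
    have hF : IsClosed (r ⁻¹' {y}) := hy.preimage r.continuous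
    obtain ⟨S, hS, hSc, hSi, hSu⟩ := NoetherianSpace.exists_finite_set_isClosed_irreducible hF
    rw [hSu]
    refine hS.sUnion fun T hT => Set.Subsingleton.finite ?_
    let I := Scheme.IdealSheafData.vanishingIdeal (⟨T, hSc T hT⟩ : Closeds X)
    haveI : AlgebraicGeometry.IsIntegral I.subscheme := isIntegral_vanishingIdeal _ (hSi T hT)
    haveI : IsClosedImmersion (P.fromSpecResidueField y) := isClosed_singleton_iff_isClosedImmersion.mp hy
    have hTy : ∀ c : I.subscheme, r (I.subschemeι c) = y := fun c => by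
      have h1 : I.subschemeι c ∈ Set.range I.subschemeι := ⟨c, rfl⟩
      rw [I.range_subschemeι, Scheme.IdealSheafData.coe_support_vanishingIdeal] at h1
      have h2 : I.subschemeι c ∈ r ⁻¹' {y} := by rw [hSu]; exact Set.subset_sUnion_of_mem hT h1
      exact h2
    haveI : Surjective (pullback.fst (I.subschemeι ≫ r) (P.fromSpecResidueField y)) := ⟨fun c => by
      have hc : (I.subschemeι ≫ r) c = P.fromSpecResidueField y (IsLocalRing.closedPoint _) := by
        rw [Scheme.Hom.comp_apply, hTy, Scheme.fromSpecResidueField_apply]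
      obtain ⟨z, hz, -⟩ := Scheme.Pullback.exists_preimage_pullback (f := I.subschemeι ≫ r) (g := P.fromSpecResidueField y) c (IsLocalRing.closedPoint _) hc
      exact ⟨z, hz⟩⟩
    haveI : IsClosedImmersion (pullback.fst (I.subschemeι ≫ r) (P.fromSpecResidueField y)) :=
      MorphismProperty.pullback_fst _ _ inferInstance
    obtain ⟨m, hm⟩ := Groth.L25.GeomRed.exists_factor (pullback.fst (I.subschemeι ≫ r) (P.fromSpecResidueField y))
      (𝟙 I.subscheme)
    haveI : Subsingleton I.subscheme := h I.subscheme I.subschemeι y (m ≫ pullback.snd _ _) (by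
      rw [Category.assoc, ← pullback.condition, reassoc_of% hm])
    intro a ha b hb
    have hrg : T = Set.range I.subschemeι := by
      rw [I.range_subschemeι, Scheme.IdealSheafData.coe_support_vanishingIdeal]; rfl
    rw [hrg] at ha hb
    obtain ⟨a', rfl⟩ := ha
    obtain ⟨b', rfl⟩ := hb
    rw [Subsingleton.elim a' b']
  choose V hyV hV using fun y : closedPoints P =>
    exists_isFinite_morphismRestrict_of_finite_preimage_singleton r y.1 (hfin y.1 (mem_closedPoints_iff.1 y.2))
  have htop : ⨆ y, V y = ⊤ := eq_top_of_closedPoints _ fun y hy => Opens.mem_iSup.2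
    ⟨⟨y, mem_closedPoints_iff.2 hy⟩, hyV _⟩
  exact IsZariskiLocalAtTarget.of_iSup_eq_top V htop hV

/-- An invertible module generated by finitely many sections and trivial on no integral closed
subscheme with more than one point is ample. -/
theorem isAmple_of_no_trivial_curve {X : Scheme.{u}} (pX : X ⟶ Spec (CommRingCat.of K)) [IsProper pX]
    {M : X.Modules} (hM : PicF.IsInvertible M) {n : ℕ} (s : Fin (n + 1) → Γ(M, ⊤)) (hs : ProjUP.GeneratedBy M s)
    (h : ∀ (C : Scheme.{u}) (i : C ⟶ X) [IsClosedImmersion i] [AlgebraicGeometry.IsIntegral C],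
      Nonempty ((Scheme.Modules.pullback i).obj M ≅ Coh.structureModule C) → Subsingleton C) :
    CohB1.IsAmple M := by
  obtain ⟨r, hr, τ, -⟩ := Groth.L18.PUP.exists_hom pX M hM s hs
  haveI : IsSeparated (Groth.L18.PUP.pr n K) := inferInstance
  haveI : IsFinite r := isFinite_of_no_curve pX (Groth.L18.PUP.pr n K) r hr fun C i _ _ y t e => h C i (by
    let P := Groth.L18.PUP.P n K
    have hO : PicF.IsInvertible (Groth.L18.PUP.O1 n K) := (Groth.L22.VeryAmple.isAmple_O1 n K).1
    haveI : Subsingleton ↥(Spec (P.residueField y)) := inferInstanceAs (Subsingleton (PrimeSpectrum (P.residueField y)))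
    obtain ⟨θ⟩ : Nonempty ((Scheme.Modules.pullback (P.fromSpecResidueField y)).obj (Groth.L18.PUP.O1 n K) ≅
        Coh.structureModule _) := (PicGrp.cl_eq_cl_iff _ _).1
      (Groth.Agent.AbDualLib.eq_oneCl_of_subsingleton ⟨_, rfl, Groth.L18.Ample.isInvertible_pullback _ hO⟩)
    obtain ⟨φ⟩ := trivial_comp t (P.fromSpecResidueField y) e.symm (Groth.L18.PUP.O1 n K) ⟨θ⟩
    exact ⟨(Scheme.Modules.pullback i).mapIso τ.symm ≪≫ (Scheme.Modules.pullbackComp i r).app _ ≪≫ φ⟩)
  exact Groth.L18.Ample.isAmple_of_iso τ
    (Groth.L18.Ample.isAmple_pullback_of_isAffineHom r (Groth.L22.VeryAmple.isAmple_O1 n K))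


/-- A compact scheme covered by generating loci is generated by finitely many sections. -/
theorem exists_generatedBy {X : Scheme.{u}} [CompactSpace X] {M : X.Modules}
    (h : ∀ x : X, ∃ σ : Coh.structureModule X ⟶ M, x ∈ CohB1.genLocus _ σ) :
    ∃ (n : ℕ) (s : Fin (n + 1) → Γ(M, ⊤)), ProjUP.GeneratedBy M s := by
  classical
  choose σ hσ using h
  obtain ⟨T, hT⟩ := isCompact_univ.elim_finite_subcover (fun x : X => (CohB1.genLocus M (σ x) : Set X))
    (fun x => (CohB1.genLocus M (σ x)).2) (fun x _ => Set.mem_iUnion.2 ⟨x, hσ x⟩)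
  let e : Option (↥T) ≃ Fin (Fintype.card (↥T) + 1) :=
    Fintype.equivFinOfCardEq (Fintype.card_option (α := ↥T))
  let S₀ : Option (↥T) → (Coh.structureModule X ⟶ M) := fun o => o.elim 0 fun a => σ a.1
  refine ⟨_, fun j => Groth.L18.GenLoc.secOf (S₀ (e.symm j)), Groth.L18.SpecLine.generatedBy_of_frames _ fun x => ?_⟩
  obtain ⟨y, hy, hxy⟩ := Set.mem_iUnion₂.1 (hT (Set.mem_univ x))
  refine ⟨CohB1.genLocus M (σ y), e (some ⟨y, hy⟩), hxy, ?_⟩
  simp only [Equiv.symm_apply_apply]
  exact Groth.L18.GenLoc.isFrame_genLocus (σ y)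

end Groth.L22.Nakai
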