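import Groth.Agent.L22.Nakai.Generated
import Groth.Agent.L22.Nakai.Finite
import Groth.Agent.L16.Rees.FiniteAmple
import Groth.Agent.L03.Euler.Lead

/-!
Nakai's criterion on an integral scheme, given ampleness on all smaller integral subschemes.
-/

set_option autoImplicit false
set_option backward.isDefEq.respectTransparency false
set_option linter.style.haveILetI false
universe u

open CategoryTheory CategoryTheory.Limits AlgebraicGeometry TopologicalSpace

noncomputable section

namespace Groth.L22.Nakai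

open Groth.L16 Groth.L16.Rees.FiniteAmple
open Groth.L00.Tensor (tensorLeftF)

theorem Van_of_iso {X : Scheme.{u}} {L M N : X.Modules} (e : M ≅ N) {p : ℕ} (h : Van L M p) : Van L N p := by
  obtain ⟨a, ha⟩ := h
  exact ⟨a, fun n hn => ProjSpace.subsingleton_of_iso
    ((tensorLeftF (CohB1.tensorPow L n)).mapIso e.symm) p (ha n hn)⟩

variable (k : Type u) [Field k] {X : Scheme.{u}} [X.Over (Spec (CommRingCat.of k))]
  [IsProper (X ↘ Spec (CommRingCat.of k))] {L : X.Modules}

include k in
/-- Serre vanishing gives the eventual vanishing. -/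
theorem van_of_isAmple (hL : CohB1.IsAmple L) {M : X.Modules} (hM : Coh.IsCoh M) {p : ℕ} (hp : 0 < p) :
    Van L M p := by
  obtain ⟨d₀, hd₀⟩ := Rees.RelVanish.exists_vanishing (X ↘ Spec (CommRingCat.of k)) hL hM
  exact ⟨d₀, fun d hd => ProjSpace.subsingleton_of_iso (Groth.L00.Tensor.tensorComm _ _) p (hd₀ d hd p hp)⟩

include k in
/-- Twists kill the cohomology of a coherent module when the pullback to every integral closed
subscheme in its support is ample. -/
theorem van_of_subschemes (hL : PicF.IsInvertible L) {F : X.Modules} (hF : Coh.IsCoh F)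
    (hsub : ∀ (C : Scheme.{u}) (i : C ⟶ X) [IsClosedImmersion i] [IsIntegral C],
      Set.range i ⊆ CohB1.support F → CohB1.IsAmple ((Scheme.Modules.pullback i).obj L))
    {p : ℕ} (hp : 0 < p) : Van L F p := by
  haveI := Groth.L21.RR.isNoetherian_of_proper (X := X) k
  haveI := hF.1
  let J := SchSupport.annIdeal hF
  haveI := SchSupport.isIso_unit_annIdeal hF
  let e := asIso ((Scheme.Modules.pullbackPushforwardAdjunction J.subschemeι).unit.app F)
  have hFz : Coh.IsCoh ((Scheme.Modules.pullback J.subschemeι).obj F) :=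
    Groth.L17.KilledUnit.isCoh_pullback_of_killed J.subschemeι F hF (SchSupport.killed_ker hF)
  haveI := hFz.1
  refine Van_of_iso e.symm (Van.of_push hL J.subschemeι _ ?_)
  letI : J.subscheme.Over (Spec (CommRingCat.of k)) := ⟨J.subschemeι ≫ X ↘ Spec (CommRingCat.of k)⟩
  haveI : IsProper (J.subscheme ↘ Spec (CommRingCat.of k)) :=
    inferInstanceAs (IsProper (J.subschemeι ≫ X ↘ Spec (CommRingCat.of k)))
  haveI := Groth.L21.RR.isNoetherian_of_proper (X := J.subscheme) k
  have hLz := Groth.L18.Ample.isInvertible_pullback J.subschemeι hL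
  refine Devissage.devissage_ideals (P := fun M => Van ((Scheme.Modules.pullback J.subschemeι).obj L) M p)
    (fun M N e h => Van_of_iso e.some h) (fun M h => Van.of_isZero hLz h p)
    (fun S hS _ _ _ a c => Van.middle hLz hS a c) (fun Z i hi hZ I ι hι hI => ?_) hFz
  haveI := hi; haveI := hZ; haveI := hι; haveI := hI
  letI : Z.Over (Spec (CommRingCat.of k)) := ⟨i ≫ J.subscheme ↘ Spec (CommRingCat.of k)⟩
  haveI : IsProper (Z ↘ Spec (CommRingCat.of k)) :=
    inferInstanceAs (IsProper (i ≫ J.subscheme ↘ Spec (CommRingCat.of k)))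
  haveI := Groth.L21.RR.isNoetherian_of_proper (X := Z) k
  have ha : CohB1.IsAmple ((Scheme.Modules.pullback i).obj ((Scheme.Modules.pullback J.subschemeι).obj L)) :=
    Groth.L18.Ample.isAmple_of_iso ((Scheme.Modules.pullbackComp i J.subschemeι).app L).symm
      (hsub Z (i ≫ J.subschemeι) (by
        rintro _ ⟨z, rfl⟩
        have h : J.subschemeι (i z) ∈ Set.range J.subschemeι := ⟨_, rfl⟩
        rw [J.range_subschemeι] at h
        exact (SchSupport.mem_support_annIdeal hF _).1 h))
  exact Van.of_push hLz i I (van_of_isAmple k ha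
    (Rees.RelVanish.isCoh_of_mono ι (Rees.RelVanish.isCoh_structureModule Z)) hp)

include k in
/-- An invertible module is ample when twists kill the cohomology of every coherent module. -/
theorem isAmple_of_van (hL : PicF.IsInvertible L)
    (h : ∀ M : X.Modules, Coh.IsCoh M → Van L M 1) : CohB1.IsAmple L := by
  haveI := Groth.L21.RR.isNoetherian_of_proper (X := X) k
  refine Rees.SerreCrit.isAmple_of_vanishing hL fun I i hi hI => ?_
  haveI := hi
  haveI := hI
  obtain ⟨n₀, hn⟩ := h I (Rees.RelVanish.isCoh_of_mono i (Rees.RelVanish.isCoh_structureModule X))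
  exact ⟨n₀, ProjSpace.subsingleton_of_iso (Groth.L00.Tensor.tensorComm _ _) 1 (hn (n₀ + 1) n₀.le_succ)⟩

include k in
/-- An integral proper scheme on which the structure module is ample is a point. -/
theorem subsingleton_of_isAmple_trivial [IsIntegral X] (hL : CohB1.IsAmple L)
    (θ : L ≅ Coh.structureModule X) : Subsingleton X := by
  obtain ⟨n, s, hx, hs⟩ := hL.2.2 (genericPoint X)
  obtain ⟨e⟩ : Nonempty (CohB1.tensorPow L (n + 1) ≅ Coh.structureModule X) :=
    ⟨Groth.L00.Tensor.tensorPowIso θ (n + 1) ≪≫ Groth.L00.Tensor.tensorPowUnit X (n + 1)⟩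
  rw [Groth.L08.Cube.genLocus_eq_top_of_trivial (X ↘ Spec (CommRingCat.of k)) e s ⟨_, hx⟩] at hs
  haveI : IsAffine (⊤ : X.Opens).toScheme := hs
  haveI : IsAffine X := IsAffine.of_isIso X.topIso.inv
  exact Groth.L03.Euler.subsingleton_of_proper_affine k X (X ↘ Spec (CommRingCat.of k))

include k in
/-- Nakai's criterion, inductive step. -/
theorem isAmple_of_integral [IsIntegral X] (hL : PicF.IsInvertible L) {d : ℕ} (hd : 0 < d)
    (hdim : topologicalKrullDim X = d)
    (hsub : ∀ (C : Scheme.{u}) (i : C ⟶ X) [IsClosedImmersion i] [IsIntegral C],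
      Set.range i ≠ Set.univ → CohB1.IsAmple ((Scheme.Modules.pullback i).obj L))
    (hpos : 0 < Groth.L22.Inter.altT k (fun _ : Fin d => L) (Coh.structureModule X)) : CohB1.IsAmple L := by
  haveI := Groth.L21.RR.isNoetherian_of_proper (X := X) k
  have hvan : ∀ F : X.Modules, Coh.IsCoh F → genericPoint X ∉ CohB1.support F →
      ∀ p, 0 < p → Van L F p := fun F hF hη p hp =>
    van_of_subschemes k hL hF (fun C i _ _ hC => hsub C i fun h => hη (hC (h ▸ Set.mem_univ _))) hp
  have hgrow : ∀ C : ℤ, ∃ N : ℕ, ∀ n, N ≤ n → C < Curv2.euler k X (CohB1.tensorPow L n) := fun C => by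
    obtain ⟨N, hN⟩ := exists_lt_euler k L hL (Rees.RelVanish.isCoh_structureModule X) hd
      ((Topology.IsEmbedding.subtypeVal.isInducing.topologicalKrullDim_le).trans hdim.le) hpos C
    exact ⟨N, fun n hn => (hN n hn).trans_eq
      (Groth.L03.Euler.euler_iso (Groth.L00.Tensor.tensorUnitLeft (CohB1.tensorPow L n)))⟩
  obtain ⟨N, hN, hgen⟩ := exists_generated k hL hvan hdim.le hgrow
  obtain ⟨n, s, hs⟩ := exists_generatedBy hgen
  refine (Groth.L18.Ample.isAmple_pow_iff hL hN).2 (isAmple_of_no_trivial_curve (X ↘ Spec (CommRingCat.of k))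
    (Groth.L18.Ample.isInvertible_tensorPow hL N) s hs fun C i _ _ ⟨θ⟩ => ?_)
  by_cases hr : Set.range i = Set.univ
  · exfalso
    haveI : Surjective i := ⟨Set.range_eq_univ.1 hr⟩
    haveI : IsIso i := isIso_of_isClosedImmersion_of_surjective i
    obtain ⟨φ⟩ := Groth.L08.Cube.trivial_comp (inv i) i (IsIso.inv_hom_id i) (CohB1.tensorPow L N) ⟨θ⟩
    let φ' : CohB1.tensorPow L N ≅ Coh.structureModule X := ((Scheme.Modules.pullbackId X).app _).symm ≪≫ φ
    obtain ⟨M, hM⟩ := hgrow (Curv2.euler k X (Coh.structureModule X))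
    have h1 := hM (N * M) (Nat.le_mul_of_pos_left M hN)
    rw [Groth.L03.Euler.euler_iso ((Groth.L00.Tensor.tensorPowMul L N M).symm ≪≫
      Groth.L00.Tensor.tensorPowIso φ' M ≪≫ Groth.L00.Tensor.tensorPowUnit X M)] at h1
    exact lt_irrefl _ h1
  · letI : C.Over (Spec (CommRingCat.of k)) := ⟨i ≫ X ↘ Spec (CommRingCat.of k)⟩
    haveI : IsProper (C ↘ Spec (CommRingCat.of k)) :=
      inferInstanceAs (IsProper (i ≫ X ↘ Spec (CommRingCat.of k)))
    have ha := hsub C i hr
    exact subsingleton_of_isAmple_trivial k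
      (Groth.L18.Ample.isAmple_of_iso (Groth.L18.Ample.pullPow i L N).symm
        ((Groth.L18.Ample.isAmple_pow_iff ha.1 hN).1 ha)) θ

end Groth.L22.Nakai
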