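import Groth.Agent.L22.Nef.StrictlyNef
import Groth.Agent.L22.Nakai.Finite
import Groth.Agent.L19.AmpleAffineLocus
import Groth.Agent.L18.AmplePull

/-!
The locus of a section containing no complete curve is affine.
-/

set_option autoImplicit false
set_option backward.isDefEq.respectTransparency false
set_option linter.style.haveILetI false
universe u

open CategoryTheory CategoryTheory.Limits AlgebraicGeometry TopologicalSpace

noncomputable section

namespace Groth.L22.Nakai

open Groth.L08.Cube (eq_top_of_closedPoints)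

/-- Off the curve-free part of a morphism the restriction is affine. -/
theorem isAffineOpen_preimage {K : Type u} [Field K] {X P : Scheme.{u}} (pX : X ⟶ Spec (CommRingCat.of K))
    [IsProper pX] (pP : P ⟶ Spec (CommRingCat.of K)) [IsSeparated pP] [LocallyOfFiniteType pP] (r : X ⟶ P)
    (hr : r ≫ pP = pX) {W : P.Opens} (hW : IsAffineOpen W)
    (h : ∀ y : X, topologicalKrullDim (closure ({y} : Set X)) = (1 : ℕ) → ¬ closure {y} ⊆ (r ⁻¹ᵁ W : Set X)) :
    IsAffineOpen (r ⁻¹ᵁ W) := by
  haveI : IsProper (r ≫ pP) := by rw [hr]; infer_instance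
  haveI : IsProper r := IsProper.of_comp r pP
  haveI : JacobsonSpace P := LocallyOfFiniteType.jacobsonSpace pP
  haveI : IsLocallyNoetherian X := LocallyOfFiniteType.isLocallyNoetherian pX
  haveI : CompactSpace X := QuasiCompact.compactSpace_of_compactSpace pX
  haveI : IsNoetherian X := {}
  haveI : IsLocallyNoetherian P := LocallyOfFiniteType.isLocallyNoetherian pP
  haveI : JacobsonSpace W.toScheme := LocallyOfFiniteType.jacobsonSpace (W.ι ≫ pP)
  have hfin : ∀ y : W.toScheme, IsClosed ({y} : Set W.toScheme) → ((r ∣_ W) ⁻¹' {y}).Finite := by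
    intro y hy
    have hyP : IsClosed ({W.ι y} : Set P) := by
      have h1 := Set.image_singleton (f := (W.ι : W.toScheme → P)) (a := y)
      have h2 : W.ι y ∈ closedPoints P := by
        have h3 : y ∈ W.ι ⁻¹' closedPoints P := by
          rw [W.ι.isOpenEmbedding.preimage_closedPoints]
          exact mem_closedPoints_iff.2 hy
        exact h3
      exact mem_closedPoints_iff.1 h2
    have hF : IsClosed (r ⁻¹' {W.ι y}) := hyP.preimage r.continuous
    have hsub : r ⁻¹' {W.ι y} ⊆ (r ⁻¹ᵁ W : Set X) := fun x hx => by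
      show r x ∈ W
      rw [show r x = W.ι y from hx]
      exact y.2
    obtain ⟨S, hS, hSc, hSi, hSu⟩ := NoetherianSpace.exists_finite_set_isClosed_irreducible hF
    have hfinX : (r ⁻¹' {W.ι y}).Finite := by
      rw [hSu]
      refine hS.sUnion fun T hT => Set.Subsingleton.finite ?_
      have hTsub : T ⊆ r ⁻¹' {W.ι y} := hSu ▸ Set.subset_sUnion_of_mem hT
      obtain ⟨z, hz⟩ := QuasiSober.sober (hSi T hT) (hSc T hT)
      have hallc : ∀ w ∈ T, IsClosed ({w} : Set X) := by
        by_contra hcon
        simp only [not_forall] at hcon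
        obtain ⟨w, hw, hwc⟩ := hcon
        haveI : NoetherianSpace T := Topology.IsInducing.subtypeVal.noetherianSpace
        haveI : QuasiSober T := (hSc T hT).isClosedEmbedding_subtypeVal.quasiSober
        obtain ⟨v, hv⟩ := Groth.L22.Nef.exists_dim_one (α := T) ⟨⟨w, hw⟩, fun hc => hwc (by
          have h4 := (hSc T hT).isClosedEmbedding_subtypeVal.isClosedMap _ hc
          rwa [Set.image_singleton] at h4)⟩
        have hcl : closure ({(v : X)} : Set X) ⊆ T := closure_minimal (Set.singleton_subset_iff.2 v.2) (hSc T hT)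
        refine h v ?_ ((hcl.trans hTsub).trans hsub)
        rw [← hv]
        let ee : closure ({v} : Set T) ≃ₜ closure ({(v : X)} : Set X) :=
          { toFun := fun p => ⟨p.1.1, by
              have := p.2
              rw [closure_subtype, Set.image_singleton] at this
              exact this⟩
            invFun := fun q => ⟨⟨q.1, hcl q.2⟩, by
              rw [closure_subtype, Set.image_singleton]
              exact q.2⟩
            left_inv := fun p => rfl
            right_inv := fun q => rfl
            continuous_toFun := by fun_prop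
            continuous_invFun := by fun_prop }
        exact (IsHomeomorph.topologicalKrullDim_eq _ ee.isHomeomorph).symm
      have hTz : T = {z} := hz.def.symm.trans (hallc z hz.mem).closure_eq
      rw [hTz]
      exact Set.subsingleton_singleton
    refine (hfinX.preimage (f := ((r ⁻¹ᵁ W).ι : (r ⁻¹ᵁ W).toScheme → X))
      (fun a _ b _ e => (r ⁻¹ᵁ W).ι.isOpenEmbedding.injective e)).subset fun x hx => ?_
    show r ((r ⁻¹ᵁ W).ι x) = W.ι y
    rw [← Scheme.Hom.comp_apply, ← morphismRestrict_ι, Scheme.Hom.comp_apply,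
      show (r ∣_ W) x = y from hx]
  choose V hyV hV using fun y : closedPoints W.toScheme =>
    exists_isFinite_morphismRestrict_of_finite_preimage_singleton (r ∣_ W) y.1
      (hfin y.1 (mem_closedPoints_iff.1 y.2))
  have htop : ⨆ y, V y = ⊤ := eq_top_of_closedPoints _ fun y hy => Opens.mem_iSup.2
    ⟨⟨y, mem_closedPoints_iff.2 hy⟩, hyV _⟩
  haveI : IsFinite (r ∣_ W) := IsZariskiLocalAtTarget.of_iSup_eq_top V htop hV
  haveI : IsAffine W.toScheme := hW
  exact isAffine_of_isAffineHom (r ∣_ W)

/-- The locus of a section of a generated module containing no curve is affine. -/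
theorem isAffineOpen_genLocus_of_no_curve {K : Type u} [Field K] {X : Scheme.{u}}
    (pX : X ⟶ Spec (CommRingCat.of K)) [IsProper pX] {M : X.Modules} (hM : PicF.IsInvertible M)
    {n : ℕ} (t : Fin (n + 1) → Γ(M, ⊤)) (ht : ProjUP.GeneratedBy M t)
    (s : Coh.structureModule X ⟶ M)
    (h : ∀ y : X, topologicalKrullDim (closure ({y} : Set X)) = (1 : ℕ) →
      ¬ closure {y} ⊆ (CohB1.genLocus M s : Set X)) :
    IsAffineOpen (CohB1.genLocus M s) := by
  have hgen : ProjUP.GeneratedBy M (Fin.cons (Groth.L18.GenLoc.secOf s) t : Fin (n + 2) → Γ(M, ⊤)) := fun x =>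
    top_le_iff.1 ((ht x).ge.trans (Submodule.span_mono (by
      rintro _ ⟨i, rfl⟩
      exact ⟨i.succ, by simp⟩)))
  obtain ⟨r, hr, τ, hτ⟩ := Groth.L18.PUP.exists_hom pX M hM _ hgen
  have hA := Groth.L22.VeryAmple.isAmple_O1 (n + 1) K
  let σ : Coh.structureModule (Groth.L18.PUP.P (n + 1) K) ⟶ Groth.L18.PUP.O1 (n + 1) K :=
    Groth.L16.homOfSection _ (Groth.L18.PUP.T 0)
  have e : Groth.L18.Ample.pullHom r σ ≫ τ.hom = s := by
    rw [← Groth.L18.GenLoc.homOfSection_secOf s,
      ← Groth.L18.GenLoc.homOfSection_secOf (Groth.L18.Ample.pullHom r σ ≫ τ.hom)]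
    congr 1
    show τ.hom.app ⊤ (Groth.L18.GenLoc.secOf (Groth.L18.Ample.pullHom r σ)) = _
    rw [Groth.L18.Ample.pullHom, Groth.L18.GenLoc.secOf_homOfSection, Groth.L18.GenLoc.secOf_homOfSection]
    exact (hτ 0).trans (by simp)
  have hW : IsAffineOpen (CohB1.genLocus _ σ) :=
    Groth.L19.AmpleAffine.isAffineOpen_genLocus (Groth.L18.PUP.pr (n + 1) K) hA σ
  have hU : CohB1.genLocus M s = r ⁻¹ᵁ CohB1.genLocus _ σ := by
    rw [← e, ← Groth.L18.Ample.genLocus_pullHom r hA.1 σ]
    exact Groth.L16.genLocus_comp_iso _ τ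
  rw [hU] at h ⊢
  exact isAffineOpen_preimage pX (Groth.L18.PUP.pr (n + 1) K) r hr hW h

end Groth.L22.Nakai
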