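import Groth.Agent.L22.Inter.PullNum
import Groth.Agent.L16.Devissage
import Groth.Agent.L03.Euler.Lead
import Groth.Agent.L18.AmpleGG
import Groth.Agent.L17.KilledUnit

/-!
A common coherent submodule of the structure module and an invertible module on an integral scheme.
-/

set_option autoImplicit false
set_option backward.isDefEq.respectTransparency false
set_option linter.style.haveILetI false
universe u

open CategoryTheory CategoryTheory.Limits AlgebraicGeometry TopologicalSpace

noncomputable section

namespace Groth.L22.Nakai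

open Groth.L16.CohSupport Groth.L16.Devissage

variable {X : Scheme.{u}} [AlgebraicGeometry.IsNoetherian X] [IsIntegral X]

theorem len_structure' : len (genericPoint X) (Coh.structureModule X) = 1 :=
  Groth.L22.Inter.len_structure

theorem len_of_isInvertible {L : X.Modules} (hL : PicF.IsInvertible L) : len (genericPoint X) L = 1 := by
  obtain ⟨e, he⟩ := Groth.L21.RR.exists_frame_stalk hL (genericPoint X)
  exact Groth.L22.Inter.len_eq_one_of_bijective e he

theorem injective_stalk_toHom (y : X) (M : X.Modules) (N : ModuleCat.{u} (X.presheaf.stalk y))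
    (α : (Groth.L00.Stk.F X y).obj M ⟶ N) (hα : Function.Injective α) :
    Function.Injective ((Groth.L00.Stk.F X y).map (Groth.L00.Sky.toHom M N α)) := by
  have e : α = (Groth.L00.Stk.F X y).map (Groth.L00.Sky.toHom M N α) ≫ (Groth.L00.Sky.adj y).counit.app N :=
    (((Groth.L00.Sky.adj y).homEquiv M N).symm_apply_apply α).symm.trans (Adjunction.homEquiv_counit _ _ _ _)
  intro a b hab
  exact hα ((congr($e a)).trans ((congrArg ((Groth.L00.Sky.adj y).counit.app N) hab).trans (congr($e b)).symm))

/-- A coherent submodule of a module injective at the generic point into the skyscraper. -/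
theorem mono_of_injective {M Q : X.Modules} (hM : PicF.IsInvertible M) (φ : M ⟶ Q)
    (h : Function.Injective ((Groth.L00.Stk.F X (genericPoint X)).map φ)) : Mono φ := by
  rw [Groth.L21.Mod.mono_iff_stalk_injective]
  intro x
  refine (injective_iff_map_eq_zero _).2 fun v hv => ?_
  obtain ⟨U, hxU, t, rfl⟩ := TopCat.Presheaf.exists_germ_eq M.presheaf v
  rw [Groth.L21.Mod.stalkF_map_germ] at hv
  obtain ⟨V, hxV, i₁, i₂, hV⟩ := TopCat.Presheaf.germ_eq Q.presheaf x hxU hxU _ 0 (hv.trans (map_zero _).symm)
  obtain ⟨W, e, hxW, he⟩ := Groth.L18.Frame.exists_frame hM x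
  have he' := he.mono (inf_le_right : V ⊓ W ≤ W)
  have hle : V ⊓ W ≤ U := le_trans inf_le_left i₁.le
  haveI : Nonempty (V ⊓ W : X.Opens) := ⟨⟨x, hxV, hxW⟩⟩
  have hη : genericPoint X ∈ (V ⊓ W : X.Opens) :=
    ((genericPoint_spec X).mem_open_set_iff (V ⊓ W).2).2 ⟨x, trivial, hxV, hxW⟩
  obtain ⟨a, ha⟩ := he'.exists_coeff le_rfl (Groth.L18.Frame.rs M hle t)
  rw [Groth.L18.Frame.rs_self] at ha
  have hgη : M.presheaf.germ (V ⊓ W) (genericPoint X) hη (Groth.L18.Frame.rs M hle t) = 0 := by
    refine h ?_
    rw [map_zero]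
    refine (DerSch.stalkFunctor_map_germ (genericPoint X) φ (V ⊓ W) hη _).trans ?_
    have h2 : φ.app (V ⊓ W) (Groth.L18.Frame.rs M hle t) = 0 := by
      refine (Groth.L16.EpiFrames.app_rs φ hle t).trans ?_
      rw [show Groth.L18.Frame.rs Q hle (φ.app U t) =
        Groth.L18.Frame.rs Q (inf_le_left : V ⊓ W ≤ V) (Groth.L18.Frame.rs Q i₁.le (φ.app U t)) from
        (Groth.L18.Frame.rs_rs Q _ _ _).symm,
        show Groth.L18.Frame.rs Q i₁.le (φ.app U t) = 0 from hV.trans (map_zero _)]
      exact map_zero _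
    rw [h2, map_zero]
  have ha0 : a = 0 := by
    refine AlgebraicGeometry.germ_injective_of_isIntegral X (genericPoint X) hη ?_
    rw [map_zero]
    refine (Groth.L21.RR.bijective_germ_frame he' hη).1 ?_
    show X.presheaf.germ (V ⊓ W) (genericPoint X) hη a • _ = (0 : X.presheaf.stalk (genericPoint X)) • _
    refine ((Groth.L17.KilledUnit.germ_smul₀ M hη a _).symm.trans ?_).trans (zero_smul _ _).symm
    exact (congrArg _ ha).trans hgη
  refine (Groth.L20.ModStalk.germ_rs M hle (show x ∈ (V ⊓ W : X.Opens) from ⟨hxV, hxW⟩) t).symm.trans ?_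
  rw [← ha, ha0, zero_smul, map_zero]

/-- A coherent module mapping monomorphically to `O` and to an invertible module, with cokernels
supported away from the generic point. -/
theorem exists_common_sub {L : X.Modules} (hL : PicF.IsInvertible L) :
    ∃ (F : X.Modules) (α : F ⟶ Coh.structureModule X) (β : F ⟶ L), Coh.IsCoh F ∧ Mono α ∧ Mono β ∧
      genericPoint X ∉ CohB1.support (cokernel α) ∧ genericPoint X ∉ CohB1.support (cokernel β) := by
  let η := genericPoint X
  let F := Groth.L00.Stk.F X η
  let N : ModuleCat.{u} (X.presheaf.stalk η) := F.obj (Coh.structureModule X)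
  have hN1 : Module.length (X.presheaf.stalk η) N = 1 := len_structure'
  have hN : IsSimpleModule (X.presheaf.stalk η) N := Module.length_eq_one_iff.1 hN1
  obtain ⟨γ, hγ⟩ : ∃ γ : F.obj L ⟶ N, Function.Injective γ := by
    obtain ⟨e, he⟩ := Groth.L21.RR.exists_frame_stalk hL η
    let E : X.presheaf.stalk η ≃ₗ[X.presheaf.stalk η] L.presheaf.stalk η :=
      LinearEquiv.ofBijective (LinearMap.toSpanSingleton (X.presheaf.stalk η) _ e) he
    let E' : X.presheaf.stalk η ≃ₗ[X.presheaf.stalk η] (Coh.structureModule X).presheaf.stalk η :=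
      LinearEquiv.ofBijective (LinearMap.toSpanSingleton (X.presheaf.stalk η) _ (Groth.L21.RR.one X η))
        (Groth.L21.RR.bijective_smul_one η)
    exact ⟨ModuleCat.ofHom (X := (F.obj L)) (Y := N) (E.symm.trans E').toLinearMap, (E.symm.trans E').injective⟩
  haveI : Coh.IsQCoh (Groth.L00.Sky.sky η N) := isQCoh_sky η N (smul_eq_zero_of_simple N hN)
  let φ : Coh.structureModule X ⟶ Groth.L00.Sky.sky η N := Groth.L00.Sky.toHom _ N (𝟙 N)
  let ψ : L ⟶ Groth.L00.Sky.sky η N := Groth.L00.Sky.toHom _ N γ
  have hφ := injective_stalk_toHom η (Coh.structureModule X) N (𝟙 N) fun a b h => h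
  have hψ := injective_stalk_toHom η L N γ hγ
  haveI : Mono φ := mono_of_injective (Groth.L18.Ample.isInvertible_structureModule X) φ hφ
  haveI : Mono ψ := mono_of_injective hL ψ hψ
  have hsky : len η (Groth.L00.Sky.sky η N) = 1 := (len_sky η N).trans hN1
  have hφs := surjective_of_simple η φ hφ len_structure' hsky
  have hψs := surjective_of_simple η ψ hψ (len_of_isInvertible hL) hsky
  let J := kernel (φ ≫ cokernel.π ψ)
  let j : J ⟶ Coh.structureModule X := kernel.ι _
  let a : J ⟶ L := Abelian.monoLift ψ (j ≫ φ) (by rw [Category.assoc]; exact kernel.condition _)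
  have ha : a ≫ ψ = j ≫ φ := Abelian.monoLift_comp ψ _ _
  haveI : Mono (a ≫ ψ) := by rw [ha]; infer_instance
  haveI : Mono a := mono_of_mono a ψ
  have hJ : Coh.IsCoh J :=
    isCoh_kernel_of_cokernel Groth.L16.CohClosedPush.isCoh_structure φ ψ (Groth.L18.Ample.isCoh_of_isInvertible hL)
  have hjs : Function.Surjective (F.map j) := by
    intro o
    have hker : F.map (φ ≫ cokernel.π ψ) o = 0 := by
      obtain ⟨p, hp⟩ := hψs (F.map φ o)
      rw [Functor.map_comp, ModuleCat.comp_apply]
      rw [← hp, ← ModuleCat.comp_apply, ← Functor.map_comp, cokernel.condition, Functor.map_zero]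
      rfl
    exact (ShortComplex.moduleCat_exact_iff _).1 ((ShortComplex.exact_kernel _).map F) o hker
  have has : Function.Surjective (F.map a) := by
    intro p
    obtain ⟨o, ho⟩ := hφs (F.map ψ p)
    obtain ⟨r, hr⟩ := hjs o
    refine ⟨r, hψ ?_⟩
    rw [← ModuleCat.comp_apply, ← Functor.map_comp, ha, Functor.map_comp, ModuleCat.comp_apply, hr]
    exact ho
  have hsupp : ∀ {A B : X.Modules} (f : A ⟶ B), Function.Surjective (F.map f) →
      η ∉ CohB1.support (cokernel f) := by
    intro A B f hf hmem
    refine hmem ⟨?_⟩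
    have h0 : ∀ q : F.obj (cokernel f), q = 0 := by
      intro q
      obtain ⟨p, rfl⟩ := (ModuleCat.epi_iff_surjective (F.map (cokernel.π f))).1 inferInstance q
      obtain ⟨r, rfl⟩ := hf p
      rw [← ModuleCat.comp_apply, ← Functor.map_comp, cokernel.condition, Functor.map_zero]
      rfl
    exact fun p q => (h0 p).trans (h0 q).symm
  exact ⟨J, j, a, hJ, inferInstance, inferInstance, hsupp j hjs, hsupp a has⟩

end Groth.L22.Nakai
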