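import Groth.Agent.L22.Nakai.NonzeroSection
import Groth.Agent.L22.CurveAmple.Section
import Groth.Agent.L21.RR.Mul
import Groth.Agent.L21.RR.Finite

/-!
Global generation of a power from vanishing on proper closed subsets.
-/

set_option autoImplicit false
set_option backward.isDefEq.respectTransparency false
set_option linter.style.haveILetI false
universe u

open CategoryTheory CategoryTheory.Limits AlgebraicGeometry TopologicalSpace Opposite

noncomputable section

namespace Groth.L22.Nakai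

open Groth.L16 Groth.L16.Rees.FiniteAmple
open Groth.L00.Tensor (tensorLeftF)

variable (k : Type u) [Field k] {X : Scheme.{u}} [X.Over (Spec (CommRingCat.of k))]
  [IsProper (X ↘ Spec (CommRingCat.of k))] [IsIntegral X] {L : X.Modules}

/-- Stalks of a skyscraper away from a closed point vanish. -/
theorem support_sky_subset {X : Scheme.{u}} {x : X} (hx : IsClosed ({x} : Set X))
    (N : ModuleCat.{u} (X.presheaf.stalk x)) : CohB1.support (Groth.L00.Sky.sky x N) ⊆ {x} := by
  intro y hy
  by_contra hne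
  refine hy ?_
  have h0 : ∀ a : (Groth.L00.Sky.sky x N).presheaf.stalk y, a = 0 := by
    intro a
    obtain ⟨U, hU, t, rfl⟩ := TopCat.Presheaf.exists_germ_eq (Groth.L00.Sky.sky x N).presheaf a
    let V : X.Opens := U ⊓ ⟨({x} : Set X)ᶜ, hx.isOpen_compl⟩
    have hyV : y ∈ V := ⟨hU, hne⟩
    have ht : Groth.L18.Frame.rs (Groth.L00.Sky.sky x N) (inf_le_left : V ≤ U) t = 0 :=
      Groth.L00.Sky.sec_ext (x := x) (N := N) fun h => absurd rfl h.2
    rw [← Groth.L20.ModStalk.germ_rs (Groth.L00.Sky.sky x N) (inf_le_left : V ≤ U) hyV t, ht, map_zero]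
  exact ⟨fun a b => (h0 a).trans (h0 b).symm⟩

include k in
/-- Near a closed point of the zero locus of a section some power has a generating section. -/
theorem exists_section_at (hL : PicF.IsInvertible L)
    (hvan : ∀ F : X.Modules, Coh.IsCoh F → genericPoint X ∉ CohB1.support F → ∀ p, 0 < p → Van L F p)
    {m : ℕ} (hm : 0 < m) (s : Coh.structureModule X ⟶ CohB1.tensorPow L m) (hs : s ≠ 0) {x : X}
    (hx : IsClosed ({x} : Set X)) (hxs : x ∉ CohB1.genLocus _ s) :
    ∃ (n : ℕ) (σ : Coh.structureModule X ⟶ CohB1.tensorPow L (n + 1)), x ∈ CohB1.genLocus _ σ := by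
  classical
  haveI := Groth.L21.RR.isNoetherian_of_proper (X := X) k
  let Lm := CohB1.tensorPow L m
  have hLm : PicF.IsInvertible Lm := Groth.L18.Ample.isInvertible_tensorPow hL m
  have hLmc := Groth.L18.Ample.isCoh_of_isInvertible hLm
  haveI : Coh.IsQCoh Lm := hLmc.1
  have hη := Groth.L22.CurveAmple.genericPoint_mem_genLocus hLm hs
  have hsηs := (Groth.L21.RR.mem_genLocus_iff hLm s (genericPoint X)).1 hη
  haveI : Mono s := mono_of_injective (Groth.L18.Ample.isInvertible_structureModule X) s (by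
    haveI h1 : IsSimpleModule (X.presheaf.stalk (genericPoint X))
        ((Groth.L00.Stk.F X (genericPoint X)).obj (Coh.structureModule X)) :=
      Module.length_eq_one_iff.1 len_structure'
    haveI : Nontrivial ((Groth.L00.Stk.F X (genericPoint X)).obj Lm) := by
      have h2 : IsSimpleModule (X.presheaf.stalk (genericPoint X))
          ((Groth.L00.Stk.F X (genericPoint X)).obj Lm) := Module.length_eq_one_iff.1 (len_of_isInvertible hLm)
      exact @IsSimpleModule.nontrivial (X.presheaf.stalk (genericPoint X)) _ _ _ _ h2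
    refine (LinearMap.injective_or_eq_zero ((Groth.L00.Stk.F X (genericPoint X)).map s).hom).resolve_right
      fun h => ?_
    obtain ⟨w, hw⟩ := exists_ne (0 : (Groth.L00.Stk.F X (genericPoint X)).obj Lm)
    obtain ⟨v, hv⟩ := hsηs w
    exact hw (hv.symm.trans (congr($h v))))
  -- the fibre at the point
  obtain ⟨e, he⟩ := Groth.L21.RR.exists_frame_stalk hLm x
  let N : ModuleCat.{u} (X.presheaf.stalk x) := ModuleCat.of _ (IsLocalRing.ResidueField (X.presheaf.stalk x))
  have hN : IsSimpleModule (X.presheaf.stalk x) N := Module.length_eq_one_iff.1 (Devissage.length_residueField _)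
  haveI : Coh.IsQCoh (Groth.L00.Sky.sky x N) :=
    CohSupport.isQCoh_sky x N (Devissage.smul_eq_zero_of_simple N hN)
  let E : X.presheaf.stalk x ≃ₗ[X.presheaf.stalk x] (Groth.L00.Stk.F X x).obj Lm :=
    LinearEquiv.ofBijective (LinearMap.toSpanSingleton (X.presheaf.stalk x) _ e) he
  let α : (Groth.L00.Stk.F X x).obj Lm ⟶ N :=
    ModuleCat.ofHom (Y := N) ((IsScalarTower.toAlgHom (X.presheaf.stalk x) (X.presheaf.stalk x)
      (IsLocalRing.ResidueField (X.presheaf.stalk x))).toLinearMap.comp E.symm.toLinearMap)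
  have hαe : α e = (1 : IsLocalRing.ResidueField (X.presheaf.stalk x)) := by
    show algebraMap _ (IsLocalRing.ResidueField (X.presheaf.stalk x)) (E.symm e) = 1
    rw [show E.symm e = 1 from E.injective (by
      rw [E.apply_symm_apply]; exact (one_smul (X.presheaf.stalk x) e).symm), map_one]
  let r : Lm ⟶ Groth.L00.Sky.sky x N := Groth.L00.Sky.toHom Lm N α
  have hsr : s ≫ r = 0 := by
    have hsv : (Groth.L00.Stk.F X x).map s ≫ α = 0 := by
      ext v
      obtain ⟨a, rfl⟩ := (Groth.L21.RR.bijective_smul_one x).2 v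
      obtain ⟨b, hb⟩ := he.2 (Groth.L21.RR.st s x (Groth.L21.RR.one X x))
      have hbu : ¬ IsUnit b := fun hu =>
        hxs ((Groth.L21.RR.mem_genLocus_iff hLm s x).2 ((Groth.L21.RR.surjective_st_iff he s hb).2 hu))
      show α (Groth.L21.RR.st s x (a • Groth.L21.RR.one X x)) = 0
      rw [map_smul, ← hb]
      refine (α.hom.map_smul a (b • e)).trans ?_
      refine (congrArg (a • ·) (α.hom.map_smul b e)).trans ?_
      rw [Devissage.smul_eq_zero_of_simple N hN b hbu, smul_zero]
    refine (((Groth.L00.Sky.adj x).homEquiv_naturality_left s α).symm.trans ?_)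
    rw [hsv]
    simp [Adjunction.homEquiv_unit]
  let P := Abelian.image r
  have hP : Coh.IsCoh P := CohSupport.isCoh_image hLmc r
  have hPs : CohB1.support P ⊆ {x} :=
    (Groth.L21.Mod.support_mono (Abelian.image.ι r)).trans (support_sky_subset hx N)
  have hPkill : ∀ (a : X.presheaf.stalk x), ¬ IsUnit a → ∀ v : (Groth.L00.Stk.F X x).obj P, a • v = 0 := by
    intro a ha v
    haveI : Mono ((Groth.L00.Stk.F X x).map (Abelian.image.ι r)) := inferInstance
    apply (ModuleCat.mono_iff_injective ((Groth.L00.Stk.F X x).map (Abelian.image.ι r))).1 inferInstance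
    rw [map_zero, map_smul]
    have hinj : Function.Injective ((Groth.L00.Sky.adj x).counit.app N) := by
      haveI := Groth.L00.Sky.isIso_counit (x := x) N
      exact (ConcreteCategory.bijective_of_isIso ((Groth.L00.Sky.adj x).counit.app N)).1
    apply hinj
    rw [map_zero]
    refine (((Groth.L00.Sky.adj x).counit.app N).hom.map_smul a _).trans ?_
    exact Devissage.smul_eq_zero_of_simple N hN a ha _
  let q : cokernel s ⟶ P := cokernel.desc s (Abelian.factorThruImage r) (by
    rw [← cancel_mono (Abelian.image.ι r), Category.assoc, Abelian.image.fac, hsr, zero_comp])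
  haveI : Epi q := epi_of_epi_fac (cokernel.π_desc s (Abelian.factorThruImage r) _)
  have hQ := (CohKernel.isCoh_kernel_cokernel (CohClosedPush.isCoh_structure (X := X)) hLmc s).2
  have hsQ : genericPoint X ∉ CohB1.support (cokernel s) :=
    (Groth.L03.Euler.notMem_support_cokernel_iff s).2 hsηs
  haveI : Coh.IsQCoh P := hP.1
  have hK := CohSupport.isCoh_kernel hQ (G := P) q
  have hsK : genericPoint X ∉ CohB1.support (kernel q) := fun h =>
    hsQ (Groth.L21.Mod.support_mono (kernel.ι q) h)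
  obtain ⟨n₁, hn₁⟩ := hvan _ hQ hsQ 1 one_pos
  obtain ⟨n₂, hn₂⟩ := hvan _ hK hsK 1 one_pos
  -- choose the twist where `h¹` is smallest
  let f : ℕ → ℕ := fun j => Module.finrank k (Coh.HH X (CohB1.tensorPow L (n₁ + n₂ + j)) 1)
  let j := Function.argmin f
  let n := n₁ + n₂ + j
  have hS : (ShortComplex.mk s (cokernel.π s) (cokernel.condition s)).ShortExact :=
    { exact := ShortComplex.exact_cokernel s }
  obtain ⟨zs, hT⟩ := Exist.Adic.shortExact_tensor (finLocFree_pow hL n) hS
  have hq : (ShortComplex.mk (kernel.ι q) q (kernel.condition q)).ShortExact :=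
    { exact := ShortComplex.exact_kernel q }
  obtain ⟨zq, hTq⟩ := Exist.Adic.shortExact_tensor (finLocFree_pow hL n) hq
  let i₂ := Groth.L00.Tensor.tensorPowAdd L n m
  have hsurj1 := surjective_hmap_f hT 1 (hn₁ n (by omega))
  have hinj1 : Function.Injective (CohLinear.hmap ((tensorLeftF (CohB1.tensorPow L n)).map s) 1) := by
    let φ := CohLinear.overLin k (CohLinear.hmap ((tensorLeftF (CohB1.tensorPow L n)).map s) 1)
    haveI hFin : ∀ M : X.Modules, Coh.IsCoh M → Module.Finite k (Coh.HH X M 1) :=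
      fun M hM => ProperFinite.finite_HH k hM 1
    haveI : Module.Finite k (Coh.HH X ((tensorLeftF (CohB1.tensorPow L n)).obj (Coh.structureModule X)) 1) :=
      hFin _ (Groth.L18.Ample.isCoh_of_isInvertible (Groth.L18.GenLoc.isInvertible_tensor
        (Groth.L18.Ample.isInvertible_tensorPow hL n) (Groth.L18.Ample.isInvertible_structureModule X)))
    haveI : Module.Finite k (Coh.HH X ((tensorLeftF (CohB1.tensorPow L n)).obj Lm) 1) :=
      hFin _ (Groth.L18.Ample.isCoh_of_isInvertible (Groth.L18.GenLoc.isInvertible_tensor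
        (Groth.L18.Ample.isInvertible_tensorPow hL n) hLm))
    have e₁ : Module.finrank k (Coh.HH X ((tensorLeftF (CohB1.tensorPow L n)).obj (Coh.structureModule X)) 1) = f j :=
      Groth.L03.Euler.finrank_HH_of_iso (k := k) (Groth.L00.Tensor.tensorUnitRight _) 1
    have e₂ : Module.finrank k (Coh.HH X ((tensorLeftF (CohB1.tensorPow L n)).obj Lm) 1) = f (j + m) := by
      refine (Groth.L03.Euler.finrank_HH_of_iso (k := k) i₂ 1).trans ?_
      show _ = Module.finrank k (Coh.HH X (CohB1.tensorPow L (n₁ + n₂ + (j + m))) 1)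
      rw [← Nat.add_assoc]
    have h1 : Module.finrank k (Coh.HH X ((tensorLeftF (CohB1.tensorPow L n)).obj Lm) 1) ≤
        Module.finrank k (Coh.HH X ((tensorLeftF (CohB1.tensorPow L n)).obj (Coh.structureModule X)) 1) :=
      φ.finrank_le_finrank_of_surjective hsurj1
    have h2 : f j ≤ f (j + m) := Function.argmin_le f _
    have h3 := le_antisymm h1 (le_of_eq_of_le e₁ (h2.trans e₂.ge))
    exact (LinearMap.injective_iff_surjective_of_finrank_eq_finrank (f := φ) h3.symm).2 hsurj1
  have hsurj : Function.Surjective (CohLinear.hmap ((tensorLeftF (CohB1.tensorPow L n)).map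
      (Abelian.factorThruImage r)) 0) := by
    intro y
    obtain ⟨w, rfl⟩ := surjective_hmap_g hTq 0 (by
      haveI : Subsingleton (Coh.HH X ((tensorLeftF (CohB1.tensorPow L n)).obj (kernel q)) 1) := hn₂ n (by omega)
      exact fun a b _ => Subsingleton.elim a b) y
    obtain ⟨v, rfl⟩ := surjective_hmap_g hT 0 hinj1 w
    refine ⟨v, ?_⟩
    rw [← CohLinear.hmap_comp, ← Functor.map_comp]
    congr 3
    exact (cokernel.π_desc s (Abelian.factorThruImage r) _).symm
  -- the point section and a lift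
  let Pn := (tensorLeftF (CohB1.tensorPow L n)).obj P
  obtain ⟨θ⟩ := Groth.L03.Euler.nonempty_stalk_tensor (Groth.L18.Ample.isInvertible_tensorPow hL n) P x
  let θ' : (Groth.L00.Stk.F X x).obj P ≃ₗ[X.presheaf.stalk x] (Groth.L00.Stk.F X x).obj Pn :=
    θ ≪≫ₗ ((Groth.L00.Stk.F X x).mapIso (Groth.L00.Tensor.tensorComm P (CohB1.tensorPow L n))).toLinearEquiv
  have hPne : ∃ v : (Groth.L00.Stk.F X x).obj P, v ≠ 0 := by
    refine ⟨(Groth.L00.Stk.F X x).map (Abelian.factorThruImage r) e, fun h => ?_⟩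
    have h1 : (Groth.L00.Stk.F X x).map r e = 0 := by
      conv_lhs => rw [← Abelian.image.fac r, Functor.map_comp, ModuleCat.comp_apply, h]
      exact map_zero _
    have h2 : α = (Groth.L00.Stk.F X x).map r ≫ (Groth.L00.Sky.adj x).counit.app N :=
      (((Groth.L00.Sky.adj x).homEquiv Lm N).symm_apply_apply α).symm.trans (Adjunction.homEquiv_counit _ _ _ _)
    have h3 : α e = 0 := (congr($h2 e)).trans ((congrArg ((Groth.L00.Sky.adj x).counit.app N) h1).trans (map_zero _))
    exact one_ne_zero (hαe.symm.trans h3)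
  obtain ⟨v, hv⟩ := hPne
  have hPn : Groth.L21.RR.SuppClosed Pn := fun y hy => not_not.1 fun h => by
    have h1 : y ∈ CohB1.support P := by
      rw [← Groth.L03.Euler.support_tensor (Groth.L18.Ample.isInvertible_tensorPow hL n) P]
      exact Groth.L21.Mod.support_mono (Groth.L00.Tensor.tensorComm P (CohB1.tensorPow L n)).inv h
    rw [Set.mem_singleton_iff.1 (hPs h1)] at hy
    exact hy hx
  obtain ⟨y, hy, -⟩ := Groth.L21.RR.exists_section_germ hPn x (θ' v)
  obtain ⟨w, hw⟩ := hsurj ((Groth.L21.RR.e0 Pn).symm y)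
  let Ln := (tensorLeftF (CohB1.tensorPow L n)).obj Lm
  let g := (tensorLeftF (CohB1.tensorPow L n)).map (Abelian.factorThruImage r)
  have hLn : PicF.IsInvertible Ln :=
    Groth.L18.GenLoc.isInvertible_tensor (Groth.L18.Ample.isInvertible_tensorPow hL n) hLm
  let t : Γ(Ln, ⊤) := Groth.L21.RR.e0 Ln w
  have ht : g.app ⊤ t = y := by
    apply (Groth.L21.RR.e0 Pn).symm.injective
    rw [← hw]
    refine (CategoryTheory.Sheaf.H.equiv₀_symm_naturality (Groth.L10.TopCoh.topTerminal X.toTopCat)
      (CohLinear.tm g) (Groth.L21.RR.e0 Ln w)).symm.trans ?_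
    exact congrArg _ ((Groth.L21.RR.e0 Ln).symm_apply_apply w)
  let σ₀ : Coh.structureModule X ⟶ Ln := homOfSection Ln t
  have hσ₀ : x ∈ CohB1.genLocus Ln σ₀ := by
    rw [Groth.L21.RR.mem_genLocus_iff hLn]
    obtain ⟨e', he'⟩ := Groth.L21.RR.exists_frame_stalk hLn x
    obtain ⟨b, hb⟩ := he'.2 (Groth.L21.RR.st σ₀ x (Groth.L21.RR.one X x))
    refine (Groth.L21.RR.surjective_st_iff he' σ₀ hb).2 ?_
    by_contra hbu
    refine hv (θ'.injective ?_)
    rw [map_zero, ← hy]
    have hgerm : Groth.L21.RR.st σ₀ x (Groth.L21.RR.one X x) = Ln.presheaf.germ ⊤ x trivial t := by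
      refine (Groth.L21.RR.st_one σ₀ x (show x ∈ (⊤ : X.Opens) from trivial)).trans (congrArg _ ?_)
      exact (Groth.L18.Frame.rs_self Ln _ _).trans (Groth.L18.GenLoc.secOf_homOfSection t)
    rw [← ht, ← Groth.L21.Mod.stalkF_map_germ, ← hgerm, ← hb]
    refine ((Groth.L00.Stk.F X x).map g).hom.map_smul b e' |>.trans ?_
    obtain ⟨z, hz⟩ := θ'.surjective ((Groth.L00.Stk.F X x).map g e')
    rw [← hz, ← map_smul, hPkill b hbu z, map_zero]
  refine ⟨n + m - 1, σ₀ ≫ i₂.hom ≫ eqToHom (by rw [show n + m - 1 + 1 = n + m by omega]), ?_⟩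
  have hh := (genLocus_comp_iso σ₀ (i₂ ≪≫ eqToIso (show CohB1.tensorPow L (n + m) = CohB1.tensorPow L (n + m - 1 + 1) by
    rw [show n + m - 1 + 1 = n + m by omega]))).ge hσ₀
  exact hh

include k in
/-- Some positive power is generated by its sections once some power has a nonzero section. -/
theorem exists_generated_of_section (hL : PicF.IsInvertible L)
    (hvan : ∀ F : X.Modules, Coh.IsCoh F → genericPoint X ∉ CohB1.support F → ∀ p, 0 < p → Van L F p)
    {m : ℕ} (hm : 0 < m) (s : Coh.structureModule X ⟶ CohB1.tensorPow L m) (hs : s ≠ 0) :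
    ∃ N : ℕ, 0 < N ∧ ∀ x : X, ∃ σ : Coh.structureModule X ⟶ CohB1.tensorPow L N, x ∈ CohB1.genLocus _ σ := by
  classical
  haveI := Groth.L21.RR.isNoetherian_of_proper (X := X) k
  let G : ℕ → X.Opens := fun n =>
    ⨆ σ : Coh.structureModule X ⟶ CohB1.tensorPow L (n + 1), CohB1.genLocus _ σ
  have hmono : ∀ (a c : ℕ), G a ≤ G ((a + 1) * (c + 1) - 1) := by
    intro a c
    induction c with
    | zero => exact le_of_eq (by simp)
    | succ c ih =>
      intro y hy
      obtain ⟨σ, hσ⟩ := Opens.mem_iSup.1 (ih hy)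
      obtain ⟨τ, hτ⟩ := Opens.mem_iSup.1 hy
      have hmem : y ∈ CohB1.genLocus _ (Groth.L18.GenLoc.tensHom σ τ) := by
        rw [Groth.L18.GenLoc.genLocus_tensHom (Groth.L18.Ample.isInvertible_tensorPow hL _)
          (Groth.L18.Ample.isInvertible_tensorPow hL _)]
        exact ⟨hσ, hτ⟩
      let i := Groth.L00.Tensor.tensorPowAdd L ((a + 1) * (c + 1) - 1 + 1) (a + 1) ≪≫
        eqToIso (show CohB1.tensorPow L ((a + 1) * (c + 1) - 1 + 1 + (a + 1)) =
          CohB1.tensorPow L ((a + 1) * (c + 1 + 1) - 1 + 1) by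
          congr 1
          )
      exact Opens.mem_iSup.2 ⟨_, (genLocus_comp_iso _ i).ge hmem⟩
  have hcov : ∀ y : X, ∃ n, y ∈ G n := by
    intro y
    haveI : CompactSpace X := inferInstance
    obtain ⟨x, hxy, hxc⟩ := (isClosed_closure (s := ({y} : Set X))).exists_closed_singleton
      ⟨y, subset_closure rfl⟩
    suffices ∃ n, x ∈ G n by
      obtain ⟨n, hn⟩ := this
      exact ⟨n, (specializes_iff_mem_closure.2 hxy).mem_open (G n).2 hn⟩
    by_cases hxs : x ∈ CohB1.genLocus _ s
    · refine ⟨m - 1, Opens.mem_iSup.2 ⟨s ≫ eqToHom (by rw [Nat.sub_add_cancel hm]), ?_⟩⟩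
      exact (genLocus_comp_iso s (eqToIso (by rw [Nat.sub_add_cancel hm]))).ge hxs
    · obtain ⟨n, σ, hσ⟩ := exists_section_at k hL hvan hm s hs hxc hxs
      exact ⟨n, Opens.mem_iSup.2 ⟨σ, hσ⟩⟩
  choose g hg using hcov
  obtain ⟨T, hT⟩ := isCompact_univ.elim_finite_subcover (fun y : X => (G (g y) : Set X)) (fun y => (G (g y)).2)
    (fun y _ => Set.mem_iUnion.2 ⟨y, hg y⟩)
  let N := ∏ y ∈ T, (g y + 1)
  have hNpos : 0 < N := Finset.prod_pos fun y _ => Nat.succ_pos _
  refine ⟨N, hNpos, fun x => ?_⟩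
  obtain ⟨y, hyT, hxy⟩ := Set.mem_iUnion₂.1 (hT (Set.mem_univ x))
  obtain ⟨c, hc⟩ : (g y + 1) ∣ N := Finset.dvd_prod_of_mem _ hyT
  have hcpos : 0 < c := Nat.pos_of_mul_pos_left (hc ▸ hNpos)
  obtain ⟨σ, hσ⟩ := Opens.mem_iSup.1 (hmono (g y) (c - 1) hxy)
  have he : (g y + 1) * (c - 1 + 1) - 1 + 1 = N := by
    rw [Nat.sub_add_cancel hcpos, ← hc, Nat.sub_add_cancel hNpos]
  exact ⟨σ ≫ eqToHom (by rw [he]), (genLocus_comp_iso σ (eqToIso (by rw [he]))).ge hσ⟩

include k in
/-- Some positive power is generated by its sections. -/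
theorem exists_generated (hL : PicF.IsInvertible L)
    (hvan : ∀ F : X.Modules, Coh.IsCoh F → genericPoint X ∉ CohB1.support F → ∀ p, 0 < p → Van L F p)
    {d : ℕ} (hdim : topologicalKrullDim X ≤ d)
    (hgrow : ∀ C : ℤ, ∃ N : ℕ, ∀ n, N ≤ n → C < Curv2.euler k X (CohB1.tensorPow L n)) :
    ∃ N : ℕ, 0 < N ∧ ∀ x : X, ∃ σ : Coh.structureModule X ⟶ CohB1.tensorPow L N, x ∈ CohB1.genLocus _ σ := by
  classical
  haveI := Groth.L21.RR.isNoetherian_of_proper (X := X) k
  obtain ⟨m, hm, hpos⟩ := exists_finrank_pos k hL hvan hdim hgrow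
  haveI := ProperFinite.finite_HH k (Groth.L18.Ample.isCoh_of_isInvertible (Groth.L18.Ample.isInvertible_tensorPow hL m)) 0
  obtain ⟨w, hw⟩ := Module.finrank_pos_iff_exists_ne_zero.1 hpos
  let t : Γ(CohB1.tensorPow L m, ⊤) := Groth.L21.RR.e0 _ w
  let s : Coh.structureModule X ⟶ CohB1.tensorPow L m := homOfSection _ t
  have hs : s ≠ 0 := fun h => hw ((Groth.L21.RR.e0 _).injective (by
    rw [map_zero]
    show t = 0
    rw [← Groth.L18.GenLoc.secOf_homOfSection (L := CohB1.tensorPow L m) t]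
    show Groth.L18.GenLoc.secOf s = 0
    rw [h]
    rfl))
  exact exists_generated_of_section k hL hvan hm s hs

end Groth.L22.Nakai
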