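import Groth.Agent.L22.Nakai.CommonSub
import Groth.Agent.L22.Nakai.Diag
import Groth.Agent.L22.Inter.Fga
import Groth.Agent.L16.Rees.FiniteAmple

/-!
Nonzero sections of large powers from growing Euler characteristics.
-/

set_option autoImplicit false
set_option backward.isDefEq.respectTransparency false
set_option linter.style.haveILetI false
universe u

open CategoryTheory CategoryTheory.Limits AlgebraicGeometry TopologicalSpace

noncomputable section

namespace Groth.L22.Nakai

open Groth.L16 Groth.L16.Rees.FiniteAmple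
open Groth.L00.Tensor (tensorLeftF)

variable (k : Type u) [Field k] {X : Scheme.{u}} [X.Over (Spec (CommRingCat.of k))]

section LES

variable {S : ShortComplex X.Modules} (hS : S.ShortExact) (p : ℕ)

include hS in
theorem surjective_hmap_f (h3 : Subsingleton (Coh.HH X S.X₃ p)) :
    Function.Surjective (CohLinear.hmap S.f p) := fun y =>
  (CohLinear.exact_hmap_hmap hS p y).1 (Subsingleton.elim _ _)

include hS in
theorem surjective_hmap_g (h1 : Function.Injective (CohLinear.hmap S.f (p + 1))) :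
    Function.Surjective (CohLinear.hmap S.g p) := fun y => by
  refine (CohLinear.exact_hmap_delta hS p y).1 (h1 ?_)
  rw [map_zero]
  exact (CohLinear.exact_delta_hmap hS p _).2 ⟨y, rfl⟩

include hS in
theorem injective_hmap_f (h3 : Subsingleton (Coh.HH X S.X₃ p)) :
    Function.Injective (CohLinear.hmap S.f (p + 1)) := by
  rw [injective_iff_map_eq_zero]
  intro x hx
  obtain ⟨y, rfl⟩ := (CohLinear.exact_delta_hmap hS p x).1 hx
  rw [Subsingleton.elim y 0, map_zero]

include hS in
theorem finrank_eq_of_vanish (h3 : Subsingleton (Coh.HH X S.X₃ p)) (h4 : Subsingleton (Coh.HH X S.X₃ (p + 1))) :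
    Module.finrank k (Coh.HH X S.X₁ (p + 1)) = Module.finrank k (Coh.HH X S.X₂ (p + 1)) :=
  (LinearEquiv.ofBijective (CohLinear.overLin k (CohLinear.hmap S.f (p + 1)))
    ⟨injective_hmap_f hS p h3, surjective_hmap_f hS (p + 1) h4⟩).finrank_eq

end LES

variable [IsProper (X ↘ Spec (CommRingCat.of k))] [IsIntegral X] {L : X.Modules}

/-- The twist by the `n`-th power. -/
abbrev T (L : X.Modules) (n : ℕ) : X.Modules ⥤ X.Modules := tensorLeftF (CohB1.tensorPow L n)

/-- Higher cohomology dimensions of powers stabilise. -/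
theorem exists_stable (hL : PicF.IsInvertible L)
    (hvan : ∀ F : X.Modules, Coh.IsCoh F → genericPoint X ∉ CohB1.support F → ∀ p, 0 < p → Van L F p) (i : ℕ) :
    ∃ N : ℕ, ∀ n, N ≤ n → Module.finrank k (Coh.HH X (CohB1.tensorPow L n) (i + 2)) =
      Module.finrank k (Coh.HH X (CohB1.tensorPow L N) (i + 2)) := by
  haveI := Groth.L21.RR.isNoetherian_of_proper (X := X) k
  obtain ⟨F, α, β, hF, hα, hβ, hsα, hsβ⟩ := exists_common_sub hL
  haveI := hα; haveI := hβ
  have hLc := Groth.L18.Ample.isCoh_of_isInvertible hL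
  have hcα := (CohKernel.isCoh_kernel_cokernel hF CohClosedPush.isCoh_structure α).2
  have hcβ := (CohKernel.isCoh_kernel_cokernel hF hLc β).2
  obtain ⟨a₁, ha₁⟩ := hvan _ hcα hsα (i + 1) (by omega)
  obtain ⟨a₂, ha₂⟩ := hvan _ hcα hsα (i + 2) (by omega)
  obtain ⟨b₁, hb₁⟩ := hvan _ hcβ hsβ (i + 1) (by omega)
  obtain ⟨b₂, hb₂⟩ := hvan _ hcβ hsβ (i + 2) (by omega)
  have step : ∀ n, a₁ + a₂ + b₁ + b₂ ≤ n → Module.finrank k (Coh.HH X (CohB1.tensorPow L (n + 1)) (i + 2)) =
      Module.finrank k (Coh.HH X (CohB1.tensorPow L n) (i + 2)) := by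
    intro n hn
    obtain ⟨zα, hTα⟩ := Exist.Adic.shortExact_tensor (finLocFree_pow hL n)
      (show (ShortComplex.mk α (cokernel.π α) (cokernel.condition α)).ShortExact from
        { exact := ShortComplex.exact_cokernel α })
    obtain ⟨zβ, hTβ⟩ := Exist.Adic.shortExact_tensor (finLocFree_pow hL n)
      (show (ShortComplex.mk β (cokernel.π β) (cokernel.condition β)).ShortExact from
        { exact := ShortComplex.exact_cokernel β })
    have eα := finrank_eq_of_vanish k hTα (i + 1) (ha₁ n (by omega)) (ha₂ n (by omega))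
    have eβ := finrank_eq_of_vanish k hTβ (i + 1) (hb₁ n (by omega)) (hb₂ n (by omega))
    rw [← Groth.L03.Euler.finrank_HH_of_iso (k := k)
      (Groth.L00.Tensor.tensorUnitRight (CohB1.tensorPow L n)) (i + 2)]
    exact eβ.symm.trans eα
  refine ⟨a₁ + a₂ + b₁ + b₂, fun n hn => ?_⟩
  induction n, hn using Nat.le_induction with
  | base => rfl
  | succ n hn ih => rw [step n hn, ih]

/-- A large power has a nonzero section. -/
theorem exists_finrank_pos (hL : PicF.IsInvertible L)
    (hvan : ∀ F : X.Modules, Coh.IsCoh F → genericPoint X ∉ CohB1.support F → ∀ p, 0 < p → Van L F p)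
    {d : ℕ} (hdim : topologicalKrullDim X ≤ d)
    (hgrow : ∀ C : ℤ, ∃ N : ℕ, ∀ n, N ≤ n → C < Curv2.euler k X (CohB1.tensorPow L n)) :
    ∃ m : ℕ, 0 < m ∧ 0 < Module.finrank k (Coh.HH X (CohB1.tensorPow L m) 0) := by
  haveI := Groth.L21.RR.isNoetherian_of_proper (X := X) k
  choose N hN using exists_stable k hL hvan
  let M := (Finset.range (d + 1)).sup N
  let C : ℤ := ∑ i ∈ Finset.range (d + 1), (Module.finrank k (Coh.HH X (CohB1.tensorPow L M) (i + 2)) : ℤ)
  obtain ⟨N₀, hN₀⟩ := hgrow C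
  refine ⟨N₀ + M + 1, Nat.succ_pos _, ?_⟩
  by_contra h0
  have h0' : Module.finrank k (Coh.HH X (CohB1.tensorPow L (N₀ + M + 1)) 0) = 0 := by omega
  have hlt := hN₀ (N₀ + M + 1) (by omega)
  rw [Groth.L03.Euler.euler_eq_sum (N := d + 1 + 1 + 1)
    fun n hn => Groth.L22.Inter.subsingleton_HH_of_dim hdim _ (by omega),
    Finset.sum_range_succ', Finset.sum_range_succ', pow_zero, h0'] at hlt
  have hle : ∑ i ∈ Finset.range (d + 1), (-1 : ℤ) ^ (i + 1 + 1) *
      (Module.finrank k (Coh.HH X (CohB1.tensorPow L (N₀ + M + 1)) (i + 1 + 1)) : ℤ) ≤ C := by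
    refine Finset.sum_le_sum fun i hi => ?_
    have hi' : N i ≤ M := Finset.le_sup (f := N) hi
    rw [show i + 1 + 1 = i + 2 from rfl, hN i (N₀ + M + 1) (by omega), ← hN i M hi']
    rcases neg_one_pow_eq_or ℤ (i + 2) with h | h <;> rw [h]
    · rw [one_mul]
    · exact (mul_nonpos_of_nonpos_of_nonneg (by norm_num) (Nat.cast_nonneg _)).trans (Nat.cast_nonneg _)
  simp only [zero_add, pow_one] at hlt
  push_cast at hlt
  linarith [Nat.cast_nonneg (α := ℤ) (Module.finrank k (Coh.HH X (CohB1.tensorPow L (N₀ + M + 1)) 1))]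

end Groth.L22.Nakai
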